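import Groth.Agent.DevissLib.Filtration
import Groth.Agent.FibDimLib.Pure
import Groth.Prelude.Def_ShStab

/-!
# Associated points of pure modules of dimension one
-/

set_option autoImplicit false
set_option linter.style.haveILetI false
set_option maxHeartbeats 1000000
universe u

open CategoryTheory CategoryTheory.Limits AlgebraicGeometry TopologicalSpace
open DevissLib

noncomputable section

namespace PureAssoLib

section Order

attribute [local instance] specializationOrder

/-- The dimension is bounded by that of the irreducible components. -/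
theorem topologicalKrullDim_le_of_components {A : Type*} [TopologicalSpace A] [T0Space A] [QuasiSober A]
    {a : WithBot ℕ∞} (h : ∀ Z ∈ irreducibleComponents A, topologicalKrullDim ↥Z ≤ a) :
    topologicalKrullDim A ≤ a := by
  rw [FibDimLib.topologicalKrullDim_eq_krullDim']
  refine iSup_le fun l => ?_
  refine le_trans ?_ (h _ (irreducibleComponent_mem_irreducibleComponents l.last))
  haveI : QuasiSober ↥(irreducibleComponent l.last) :=
    (isClosed_irreducibleComponent (x := l.last)).isClosedEmbedding_subtypeVal.quasiSober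
  rw [FibDimLib.topologicalKrullDim_eq_krullDim']
  have hmem : ∀ j, l j ∈ irreducibleComponent l.last := fun j =>
    Specializes.mem_closed (show l.last ⤳ l j from l.monotone (Fin.le_last j)) isClosed_irreducibleComponent
      mem_irreducibleComponent
  refine le_iSup_of_le (@LTSeries.mk _ (specializationOrder ↥(irreducibleComponent l.last)).toPreorder l.length
    (fun j => (⟨l j, hmem j⟩ : irreducibleComponent l.last)) fun a b hab =>
    @lt_of_le_of_ne ↥(irreducibleComponent l.last) (specializationOrder _) _ _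
      ((Topology.IsInducing.subtypeVal.specializes_iff).mp (show l b ⤳ l a from (l.strictMono hab).le))
      (fun e => (l.strictMono hab).ne (congrArg Subtype.val e))) le_rfl

end Order

variable {X : Scheme.{u}}

/-- A pure module of dimension one has no associated closed point. -/
theorem not_asso_closed [IsNoetherian X] {F : X.Modules} (hF : Coh.IsCoh F) (hp : ShStab.IsPure X F 1)
    {x : X} (hx : IsClosed ({x} : Set X)) : ¬ DevissLib.Asso F x := by
  rintro ⟨a, ha, hk⟩
  haveI := hF.1
  obtain ⟨W, hxW, s₁, hs₁⟩ := exists_gm_eq F x a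
  obtain ⟨U, hU, hxU, hUW⟩ := Opens.isBasis_iff_nbhd.mp X.isBasis_affineOpens hxW
  have hs₂ : gm F x hxU (F.presheaf.map (homOfLE hUW).op s₁) = a := (gm_map F _ x hxU s₁).trans hs₁
  obtain ⟨r, hru, hrk⟩ := exists_section_killed hU hxU _ (hs₂.symm ▸ hk)
  let s : Γ(F, U) := r • F.presheaf.map (homOfLE hUW).op s₁
  have hs : gm F x hxU s ≠ 0 := by
    rw [gm_smul, hs₂]; exact fun h => ha (hru.smul_eq_zero.mp h)
  let Y : X.Opens := ⟨({x} : Set X)ᶜ, hx.isOpen_compl⟩
  have : NoetherianSpace (↑Y : Scheme.{u}) := Y.ι.isOpenEmbedding.isInducing.noetherianSpace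
  have : QuasiCompact Y.ι := ⟨fun V _ _ => TopologicalSpace.NoetherianSpace.isCompact _⟩
  let P := (Scheme.Modules.pushforward Y.ι).obj (F.restrict Y.ι)
  have hP : Coh.IsQCoh P := QCohLib.isQCoh_pushforward Y.ι _
  let φ : F ⟶ P := (Scheme.Modules.restrictAdjunction Y.ι).unit.app F
  have hφ : ∀ (V : X.Opens) (z : Γ(F, V)), φ.app V z =
      F.presheaf.map (homOfLE (Y.ι.image_preimage_le V)).op z := fun V z =>
    congr($(Scheme.Modules.restrictAdjunction_unit_app_app Y.ι F V) z)
  have htz : φ.app U s = 0 := by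
    rw [hφ]
    refine TopCat.Presheaf.section_ext ((QCohLib.toAbF X).obj F : TopCat.Sheaf AddCommGrpCat _)
      (Y.ι ''ᵁ (Y.ι ⁻¹ᵁ U)) _ _ fun y hy => ?_
    have hyU : y ∈ U := Y.ι.image_preimage_le U hy
    have hyY : ¬ x ⤳ y := fun h' => by
      obtain ⟨w, -, rfl⟩ := hy
      exact w.2 (h'.mem_closed hx rfl)
    refine Eq.trans ?_ (map_zero (F.presheaf.germ _ y hy).hom).symm
    change gm F y hy _ = 0
    rw [gm_map]
    exact gm_eq_zero_of_killed hU hxU s hrk hyU hyY
  obtain ⟨t, ht⟩ := QCohLib.exists_of_app_eq_zero (S := ShortComplex.mk (kernel.ι φ) φ (kernel.condition φ))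
    (ShortComplex.exact_of_f_is_kernel _ (kernelIsKernel φ)) inferInstance s htz
  have hH : Coh.IsCoh (kernel φ) := QCohLib.isCoh_kernel φ hF hP
  have hsupp : CohB1.support (kernel φ) ⊆ {x} := by
    intro y hy
    by_contra hyx
    refine notMem_support_kernel φ y (fun p q hpq => ?_) hy
    rw [← sub_eq_zero, ← map_sub] at hpq
    rw [← sub_eq_zero]
    obtain ⟨V, hyV, z, hz⟩ := exists_gm_eq F y (p - q)
    rw [← hz] at hpq ⊢
    rw [gm_app] at hpq
    obtain ⟨V', hyV', i₁, i₂, hV'⟩ := TopCat.Presheaf.germ_eq P.presheaf y hyV hyV (φ.app V z) 0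
      (hpq.trans (gm_zero P y hyV).symm)
    rw [map_zero] at hV'
    have hV'' : φ.app V' (F.presheaf.map i₁.op z) = 0 := (QCohLib.app_map φ i₁ z).trans hV'
    rw [hφ] at hV''
    have hyV'' : y ∈ Y.ι ''ᵁ (Y.ι ⁻¹ᵁ V') := ⟨⟨y, hyx⟩, hyV', rfl⟩
    rw [← gm_map F i₁.le y hyV', ← gm_map F (Y.ι.image_preimage_le V') y hyV'']
    exact (congr_arg (gm F y hyV'') hV'').trans (gm_zero F y hyV'')
  have hne : ¬ IsZero (kernel φ) := fun hz => by
    refine hs ?_
    rw [← ht]
    refine (gm_app (kernel.ι φ) x hxU t).symm.trans ?_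
    haveI : Subsingleton ((St x).obj (kernel φ)) := ModuleCat.subsingleton_of_isZero ((St x).map_isZero hz)
    rw [Subsingleton.elim (gm (kernel φ) x hxU t) 0, map_zero]
  have h1 := hp (kernel φ) (kernel.ι φ) inferInstance hH hne
  haveI : Subsingleton (CohB1.support (kernel φ)) :=
    ⟨fun y z => Subtype.ext ((hsupp y.2).trans (hsupp z.2).symm)⟩
  have h2 : topologicalKrullDim (CohB1.support (kernel φ)) ≤ 0 := topologicalKrullDim_zero_of_discreteTopology _
  rw [h1] at h2
  exact absurd h2 (by norm_num)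

end PureAssoLib
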